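import Groth.Agent.AlgSpLib.DecentPack
import Groth.Agent.AlgSpLib.DecentPoints
import Groth.Agent.AlgSpLib.RepBase
import Groth.Agent.AlgSpLib.Iso
import Groth.Agent.AlgSpLib.Sep
import Groth.Agent.AlgSpLib.LocP
import Groth.Prelude.Def_AlgSpGpd

/-!
# Rational points of decent spaces over a field are closed immersions
-/

set_option autoImplicit false
set_option backward.isDefEq.respectTransparency false
set_option backward.isDefEq.respectTransparency.types false

universe u

open CategoryTheory CategoryTheory.Limits AlgebraicGeometry MonoidalCategory CartesianMonoidalCategory MonObj GrpObj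

noncomputable section

namespace Groth.Agent.AlgSpDecentSepLib

open AlgSp AlgSpLib

variable {S : Scheme.{u}}

theorem closedImmersion_section {k : Type u} [Field k] {σ : Spec (CommRingCat.of k) ⟶ S} {X : Sp S}
    (hX : IsAlgSpace X) (hd : IsDecent X) (g : X ⟶ (yon S).obj (Over.mk σ))
    (e : (yon S).obj (Over.mk σ) ⟶ X) (he : e ≫ g = 𝟙 _) : RepWith @IsClosedImmersion e := by
  haveI : Mono e := mono_of_mono_fac he
  -- the point is quasi-compact
  let q : FieldPt X := ⟨k, σ, (GrothendieckTopology.uliftYonedaEquiv.{u + 1} (AlgSp.J S)) e⟩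
  have hqe : q.toHom = e := Equiv.symm_apply_apply _ _
  obtain ⟨p, hp, -, hpq⟩ := hd (Points.mk q)
  have heq : RepWith @QuasiCompact e := hqe ▸ repWith_qc_of_eq hX hpq hp.symm
  -- test on an atlas
  obtain ⟨U, a, ha, has⟩ := hX.atlas
  haveI : Sheaf.IsLocallySurjective a :=
    isLocallySurjective_of_etale_surjective (IsAlgSpace.yon_obj U) hX (isEtaleMor_of_repWith ha)
      (map_surjective_of_repWith has)
  obtain ⟨W, w, v, sq⟩ := exists_isPullback_yon e a heq.rep
  refine repWith_of_cover sq heq.rep ((repWith_yon_map_iff _ v).2 ?_)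
  let h : U ⟶ Over.mk σ := (yon S).preimage (a ≫ g)
  have hvh : v ≫ h = w := (yon S).map_injective (by
    rw [Functor.map_comp, Functor.map_preimage, ← reassoc_of% sq.w, he, Category.comp_id])
  haveI : Etale w.left := etale_left (repWith_of_isPullback sq.flip ha)
  haveI : QuasiCompact v.left :=
    (repWith_yon_map_iff (P := (@QuasiCompact : MorphismProperty Scheme.{u})) v).1 (repWith_of_isPullback sq heq)
  haveI : Mono ((yon S).map v) := sq.mono_snd_of_mono
  haveI : Mono v.left := mono_left_of_mono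
  refine (IsZariskiLocalAtTarget.iff_of_openCover (P := @IsClosedImmersion) U.left.affineCover).2 fun i => ?_
  let V := U.left.affineCover.X i
  let j : V ⟶ U.left := U.left.affineCover.f i
  haveI : IsAffine V := inferInstanceAs (IsAffine (U.left.affineCover.X i))
  change IsClosedImmersion (pullback.snd v.left j)
  have hc : pullback.snd v.left j ≫ j ≫ h.left = pullback.fst v.left j ≫ w.left := by
    rw [← Category.assoc, ← pullback.condition, Category.assoc, ← Over.comp_left, hvh]
  haveI : IsFinite (pullback.snd v.left j ≫ j ≫ h.left) := by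
    haveI : QuasiCompact (pullback.snd v.left j ≫ j ≫ h.left) := by
      haveI : IsAffine (Over.mk σ).left := inferInstanceAs (IsAffine (Spec (CommRingCat.of k)))
      haveI : IsAffineHom (j ≫ h.left) := isAffineHom_of_isAffine _
      infer_instance
    haveI : LocallyQuasiFinite (pullback.snd v.left j ≫ j ≫ h.left) := by
      rw [hc]
      haveI : Etale (pullback.fst v.left j ≫ w.left) := inferInstance
      exact locallyQuasiFinite_of_etale _
    haveI : IsLocallyArtinian (Over.mk σ).left :=
      inferInstanceAs (IsLocallyArtinian (Spec (CommRingCat.of k)))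
    exact IsFinite.of_locallyQuasiFinite _
  haveI : IsFinite (pullback.snd v.left j) := IsFinite.of_comp _ (j ≫ h.left)
  exact (IsClosedImmersion.iff_isProper_and_mono _).2 ⟨inferInstance, inferInstance⟩

/-- A groupoid over a field with decent arrows is separated. -/
theorem isSeparatedSp_R {B : Sp S} (G : GroupoidSp B) (hR : IsAlgSpace G.R) {k : Type u} [Field k]
    {σ : Spec (CommRingCat.of k) ⟶ S} (eU : G.U ≅ (yon S).obj (Over.mk σ)) (hd : IsDecent G.R) :
    IsSeparatedSp G.R := by
  have he : RepWith @IsClosedImmersion G.e := by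
    have h1 := closedImmersion_section hR hd (G.s ≫ eU.hom) (eU.inv ≫ G.e) (by
      rw [Category.assoc, ← Category.assoc G.e, G.e_s, Category.id_comp, Iso.inv_hom_id])
    exact (MorphismProperty.cancel_left_of_respectsIso (RepWith @IsClosedImmersion) eU.inv G.e).1 h1
  let P := pullback G.s G.s
  let α : P ⟶ G.R := pullback.fst G.s G.s
  let β : P ⟶ G.R := pullback.snd G.s G.s
  have hαβ : α ≫ G.s = (β ≫ G.i) ≫ G.t := by rw [Category.assoc, G.i_t]; exact pullback.condition
  let d : P ⟶ G.R := pullback.lift α (β ≫ G.i) hαβ ≫ G.c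
  let Δ : G.R ⟶ P := pullback.diagonal G.s
  have pre : ∀ {T T' : Sp S} (m : T' ⟶ T) (x y : T ⟶ G.R) (h : x ≫ G.s = y ≫ G.t),
      m ≫ pullback.lift x y h ≫ G.c =
        pullback.lift (m ≫ x) (m ≫ y) (by rw [Category.assoc, h, Category.assoc]) ≫ G.c := by
    intro T T' m x y h
    rw [← Category.assoc]
    exact congrArg (· ≫ G.c) (pullback.hom_ext (by rw [Category.assoc, pullback.lift_fst, pullback.lift_fst])
      (by rw [Category.assoc, pullback.lift_snd, pullback.lift_snd]))
  have lift_congr : ∀ {T : Sp S} {x x' y y' : T ⟶ G.R} (h : x ≫ G.s = y ≫ G.t) (h' : x' ≫ G.s = y' ≫ G.t),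
      x = x' → y = y' → pullback.lift x y h ≫ G.c = pullback.lift x' y' h' ≫ G.c := by
    rintro T x x' y y' h h' rfl rfl; rfl
  have hΔd : Δ ≫ d = G.t ≫ G.e := by
    change Δ ≫ pullback.lift α (β ≫ G.i) hαβ ≫ G.c = _
    rw [pre Δ, lift_congr _ (x' := 𝟙 G.R) (y' := G.i) (by rw [Category.id_comp, G.i_t])
      (pullback.diagonal_fst _) (by rw [← Category.assoc, pullback.diagonal_snd, Category.id_comp])]
    exact (lift_congr _ (by rw [Category.id_comp, Category.id_comp, G.i_t]) rfl (Category.id_comp _).symm).trans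
      ((G.comp_i (𝟙 G.R)).trans (Category.id_comp _))
  have hsd : Δ ≫ α = 𝟙 _ ∧ Δ ≫ β = 𝟙 _ := ⟨pullback.diagonal_fst _, pullback.diagonal_snd _⟩
  have key : ∀ {T : Sp S} (x y : T ⟶ G.R) (v : T ⟶ G.U) (h₁ : x ≫ G.s = (y ≫ G.i) ≫ G.t),
      pullback.lift x (y ≫ G.i) h₁ ≫ G.c = v ≫ G.e → x = y ∧ v = y ≫ G.t := by
    intro T x y v h₁ hxy
    have hv : v = y ≫ G.t := by
      have h2 := (G.comp_s x (y ≫ G.i) h₁).symm.trans (congrArg (· ≫ G.s) hxy)
      simpa [G.e_s, G.i_s] using h2.symm
    have h₂ : (y ≫ G.i) ≫ G.s = y ≫ G.t := by rw [Category.assoc, G.i_s]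
    have hs : x ≫ G.s = y ≫ G.s := h₁.trans (by rw [Category.assoc, G.i_t])
    have ha : pullback.lift (y ≫ G.i) y h₂ ≫ G.c = x ≫ G.s ≫ G.e := by
      rw [G.i_comp y, ← Category.assoc, ← hs, Category.assoc]
    have hb : pullback.lift x (y ≫ G.i) h₁ ≫ G.c = y ≫ G.t ≫ G.e := by rw [hxy, hv, Category.assoc]
    refine ⟨?_, hv⟩
    calc x = pullback.lift x (x ≫ G.s ≫ G.e) _ ≫ G.c := (G.comp_e x).symm
      _ = pullback.lift x (pullback.lift (y ≫ G.i) y h₂ ≫ G.c) (h₁.trans (G.comp_t _ _ h₂).symm) ≫ G.c :=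
        lift_congr _ _ rfl ha.symm
      _ = pullback.lift (pullback.lift x (y ≫ G.i) h₁ ≫ G.c) y ((G.comp_s x _ h₁).trans h₂) ≫ G.c :=
        (G.assoc x (y ≫ G.i) y h₁ h₂).symm
      _ = pullback.lift (y ≫ G.t ≫ G.e) y (by rw [Category.assoc, Category.assoc, G.e_s, Category.comp_id]) ≫ G.c :=
        lift_congr _ _ hb rfl
      _ = y := G.e_comp y
  have sqe : IsPullback Δ G.t d G.e := by
    have hk : ∀ c : PullbackCone d G.e, c.fst ≫ α = c.fst ≫ β ∧ c.snd = (c.fst ≫ β) ≫ G.t := fun c =>
      key (c.fst ≫ α) (c.fst ≫ β) c.snd (by rw [Category.assoc, hαβ]; simp) (by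
        rw [← c.condition]
        exact ((pre c.fst α (β ≫ G.i) hαβ).trans (lift_congr _ _ rfl (Category.assoc _ _ _).symm)).symm)
    refine ⟨⟨hΔd⟩, ⟨PullbackCone.IsLimit.mk _ (fun c => c.fst ≫ β) ?_ ?_ ?_⟩⟩
    · intro c
      refine pullback.hom_ext ?_ ?_
      · change ((c.fst ≫ β) ≫ Δ) ≫ α = c.fst ≫ α
        rw [Category.assoc, hsd.1, Category.comp_id, (hk c).1]
      · change ((c.fst ≫ β) ≫ Δ) ≫ β = c.fst ≫ β
        rw [Category.assoc, hsd.2, Category.comp_id]
    · intro c
      exact (hk c).2.symm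
    · intro c m h1 _
      rw [← h1, Category.assoc, hsd.2, Category.comp_id]
  have hΔ : RepWith @IsClosedImmersion Δ := repWith_of_isPullback sqe.flip he
  -- the field has closed diagonal
  have hU : RepWith @IsClosedImmersion (Limits.diag G.U) := by
    have h1 : RepWith @IsClosedImmersion (Limits.diag ((yon S).obj (Over.mk σ))) :=
      (repWith_diag_yon_iff _ _).2 (inferInstanceAs (IsClosedImmersion (pullback.diagonal σ)))
    have h2 : eU.hom ≫ Limits.diag ((yon S).obj (Over.mk σ)) ≫ prod.map eU.inv eU.inv = Limits.diag G.U :=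
      prod.hom_ext (by simp) (by simp)
    rw [← h2]
    exact (MorphismProperty.cancel_left_of_respectsIso (RepWith @IsClosedImmersion) _ _).2
      ((MorphismProperty.cancel_right_of_respectsIso (RepWith @IsClosedImmersion) _ _).2 h1)
  have sqU : IsPullback (prod.lift α β) (α ≫ G.s) (prod.map G.s G.s) (Limits.diag G.U) := by
    refine ⟨⟨prod.hom_ext (by simp) (by simp [α, β, pullback.condition])⟩, ⟨PullbackCone.IsLimit.mk _
      (fun c => pullback.lift (c.fst ≫ prod.fst) (c.fst ≫ prod.snd) (by
        have h1 : c.fst ≫ prod.map G.s G.s = c.snd ≫ Limits.diag G.U := c.condition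
        have h2 := congrArg (· ≫ prod.fst) h1
        have h3 := congrArg (· ≫ prod.snd) h1
        simp at h2 h3
        simp [h2, h3])) ?_ ?_ ?_⟩⟩
    · intro c
      exact prod.hom_ext (by simp [α, β]) (by simp [α, β])
    · intro c
      have h2 := congrArg (· ≫ prod.fst) c.condition
      simp at h2
      simp [α, h2]
    · intro c m h1 _
      refine pullback.hom_ext ?_ ?_
      · rw [pullback.lift_fst, ← h1]; simp [α]
      · rw [pullback.lift_snd, ← h1]; simp [β]
  have hP : RepWith @IsClosedImmersion (prod.lift α β) := repWith_of_isPullback sqU.flip hU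
  have : Δ ≫ prod.lift α β = Limits.diag G.R := prod.hom_ext (by simp [hsd.1]) (by simp [hsd.2])
  rw [IsSeparatedSp, ← this]
  exact repWith_comp hΔ hP

end Groth.Agent.AlgSpDecentSepLib
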